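import Cfsg.Agent.Lib.GTwoThreeMult.Section
import Cfsg.Agent.Lib.GTwoThreeMult.StemCover
import Cfsg.Agent.Lib.Schur.ThreeLocal
import Cfsg.Agent.Lib.Schur.Exponent

/-!
The kernel of a stem extension of G2(3) is generated by the commutator of lifts of two orthogonal root elements.
-/

set_option autoImplicit false

namespace Cfsg.Agent.GTwoThreeMult

open Cfsg Cfsg.Lie Cfsg.Agent.Chev
open scoped commutatorElement

universe u

variable {K : Type u} [Field K] [Fintype K]

theorem chkPair_G2 : chkPair G2.cert 9 6 = true := by decide +kernel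

theorem exists_surjective (hq : Fintype.card K = 3) {Γ : Type*} [Group Γ] [Finite Γ]
    (σ : Γ →* ↥(chevG2.group K)) (hσ : IsStemExtension σ) :
    ∃ π : Multiplicative (ZMod 3) →* σ.ker, Function.Surjective π := by
  classical
  have hD : chevG2 ∈ [chevG2, chevB2, chevD4, chevF4, chevE6, chevE7, chevE8] := by simp
  obtain ⟨tabs, simps, hf⟩ := BNSetup.exists_facts hD
  have hperf : commutator (chevG2.SteinbergCover K) = ⊤ :=
    Agent.S2395.result _ hD fun _ => exists_ne_zero_one hq
  obtain ⟨e, he⟩ := exists_equiv hq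
  obtain ⟨θ, -, hθ⟩ := (good_of_mem hD).exists_cover_hom (F := K)
  let S := coverModel ((chevG2.group K).subtype.comp θ) hθ
  set x₉ := chevG2.scGen K 9 1
  set x₆ := chevG2.scGen K 6 1
  have h3 : (3 : K) = 0 := by
    have := Nat.cast_card_eq_zero K
    rwa [hq, Nat.cast_ofNat] at this
  have hx3 : x₉ ^ 3 = 1 := by
    rw [pow_succ, pow_two]
    show S.x 9 1 * S.x 9 1 * S.x 9 1 = 1
    rw [S.add 9 (by decide), S.add 9 (by decide), show (1 + 1 + 1 : K) = 0 by linear_combination h3,
      S.x_zero (by decide)]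
  have hcomm : x₉ * x₆ = x₆ * x₉ := by
    have he' : chevG2.commTerms 9 6 = [] := by decide +kernel
    exact (cm_eq_one.1 (S.cm_orth ⟨by decide, by decide, by decide, by decide, he'⟩ 1 1)).symm
  obtain ⟨A, hA⟩ := hσ.1 (e x₉)
  obtain ⟨B, hB⟩ := hσ.1 (e x₆)
  set d := ⁅A, B⁆ with hd
  have hdk : d ∈ σ.ker := by
    rw [MonoidHom.mem_ker, hd, map_commutatorElement, commutatorElement_eq_one_iff_mul_comm, hA, hB, ← map_mul,
      ← map_mul, hcomm]
  have hd3 : d ^ 3 = 1 :=
    Schur.pow_commutator_eq_one σ hσ.2.1 (Subgroup.mem_center_iff.1 (hσ.2.1 hdk) A)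
      (by rw [hA, ← map_pow, hx3, map_one])
  refine Schur.exists_surjective_zmod_of_le_zpowers σ.ker 3 (c := d) ?_ hd3
  intro k hk
  set N := Subgroup.zpowers d
  have hNc : N ≤ Subgroup.center Γ := Subgroup.zpowers_le.2 (hσ.2.1 hdk)
  haveI : N.Normal := ⟨fun x hx g => by
    rwa [Subgroup.mem_center_iff.1 (hNc hx) g, mul_inv_cancel_right]⟩
  let σ' : Γ ⧸ N →* ↥(chevG2.group K) := QuotientGroup.lift N σ (Subgroup.zpowers_le.2 hdk)
  let p : Γ ⧸ N →* chevG2.SteinbergCover K := e.symm.toMonoidHom.comp σ'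
  have hp : ∀ g : Γ, p g = e.symm (σ g) := fun g => rfl
  have hps : Function.Surjective p := fun x => by
    obtain ⟨g, hg⟩ := hσ.1 (e x)
    exact ⟨g, by rw [hp, hg, e.symm_apply_apply]⟩
  have hpc : p.ker ≤ Subgroup.center (Γ ⧸ N) := by
    intro x hx
    obtain ⟨g, rfl⟩ := QuotientGroup.mk_surjective x
    rw [MonoidHom.mem_ker, hp, ← map_one e.symm, e.symm.injective.eq_iff] at hx
    rw [Subgroup.mem_center_iff]
    intro y
    obtain ⟨y, rfl⟩ := QuotientGroup.mk_surjective y
    rw [← QuotientGroup.mk_mul, ← QuotientGroup.mk_mul, Subgroup.mem_center_iff.1 (hσ.2.1 hx) y]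
  obtain ⟨τ, hτ⟩ := exists_section_of_pair G2.valid hf (stData_of_mem _ hD) (torusSplitData_of_mem hD)
    chkPair_G2 hq hperf p hps hpc (fun a b ha hb => by
      obtain ⟨a, rfl⟩ := QuotientGroup.mk_surjective a
      obtain ⟨b, rfl⟩ := QuotientGroup.mk_surjective b
      rw [hp, MulEquiv.symm_apply_eq] at ha hb
      have h1 : QuotientGroup.mk' N ⁅a, b⁆ = 1 := (QuotientGroup.eq_one_iff _).2 (by
        rw [Schur.commutatorElement_eq_of_map_eq σ hσ.2.1 (ha.trans hA.symm) (hb.trans hB.symm)]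
        exact Subgroup.mem_zpowers d)
      rw [map_commutatorElement] at h1
      exact commutatorElement_eq_one_iff_mul_comm.1 h1)
  have hrange : commutator (Γ ⧸ N) ≤ τ.range := by
    rw [commutator_def, Subgroup.commutator_le]
    rintro a - b -
    exact ⟨⁅p a, p b⁆, (map_commutatorElement τ _ _).trans
      (Schur.commutator_congr hpc (hτ _) (hτ _))⟩
  have hmem : (k : Γ ⧸ N) ∈ commutator (Γ ⧸ N) := by
    have h : QuotientGroup.mk' N k ∈ (commutator Γ).map (QuotientGroup.mk' N) := Subgroup.mem_map_of_mem _ (hσ.2.2 hk)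
    rw [commutator_def, Subgroup.map_commutator] at h
    exact Subgroup.commutator_mono le_top le_top h
  obtain ⟨s, hs⟩ := hrange hmem
  have hs1 : s = 1 := by
    rw [← hτ s, hs, hp, MonoidHom.mem_ker.1 hk, map_one]
  rw [hs1, map_one] at hs
  exact (QuotientGroup.eq_one_iff _).1 hs.symm

end Cfsg.Agent.GTwoThreeMult
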