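import Cfsg.Agent.Lib.Chev.Steinberg.SmallField

/-!
Central extensions of the group of (R1), (R2) over three elements when some commuting pairs of root elements are not
separated by the torus and form one orbit of the Weyl group: such an extension splits as soon as one of these pairs
lifts to commuting elements.
-/

set_option autoImplicit false

namespace Cfsg.Agent.Chev

open Cfsg.Lie

/-- The alternating words in two fundamental reflections. -/
def dihedralWords : List (List ℕ) :=
  [[], [0], [1], [0, 1], [1, 0], [0, 1, 0], [1, 0, 1], [0, 1, 0, 1], [1, 0, 1, 0], [0, 1, 0, 1, 0], [1, 0, 1, 0, 1],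
    [0, 1, 0, 1, 0, 1]]

/-- A word carrying the given pair to the pair `(r, s)` in some order. -/
noncomputable def pairWordB (c : Cert) (r₀ s₀ r s : ℕ) : Bool :=
  dihedralWords.any fun L => L.all (fun i => Nat.blt i c.rank) &&
    ((Nat.beq (c.wordImg L r₀) r && Nat.beq (c.wordImg L s₀) s) ||
      (Nat.beq (c.wordImg L r₀) s && Nat.beq (c.wordImg L s₀) r))

/-- The check: apart from the orbit of the given pair the torus separates commuting pairs. -/
noncomputable def chkPair (c : Cert) (r₀ s₀ : ℕ) : Bool :=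
  Nat.blt r₀ c.nroots && Nat.blt s₀ c.nroots && allLt c.nroots (c.selB 2) &&
    (allLt c.nroots fun r => allLt c.nroots fun s =>
      Nat.beq s r || (Nat.beq s (c.ng r) || ((c.comm r s).isEmpty || c.killB 2 r s))) &&
    (c.reps.all fun ρ => ρ.bases.all fun s => Nat.beq s ρ.root || (Nat.beq s (c.ng ρ.root) ||
      (!(c.comm ρ.root s).isEmpty || (c.killB 2 ρ.root s || pairWordB c r₀ s₀ ρ.root s))))

variable {D : ChevalleyDatum} {c : Cert} {K : Type*} [Field K] {E : Type*} [Group E]

theorem wordSign_sq (hV : Valid D c) {L : List ℕ} (hL : ∀ i ∈ L, i < D.rank) {r : ℕ} (hr : r < D.nroots) :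
    c.wordImg L r < D.nroots ∧ c.wordSign L r * c.wordSign L r = 1 := by
  induction L with
  | nil => exact ⟨hr, rfl⟩
  | cons i L ih =>
    obtain ⟨h1, h2⟩ := ih fun j hj => hL j (List.mem_cons_of_mem _ hj)
    have hi := hL i List.mem_cons_self
    refine ⟨hV.w_lt hi h1, ?_⟩
    rw [Cert.wordSign, mul_mul_mul_comm, hV.eta_sq hi h1, h2, one_mul]

/-- Central extensions over the field with three elements split when one commuting pair of root elements not separated
by the torus lifts to commuting elements. -/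
theorem exists_section_of_pair (hV : Valid D c) {tabs simps : List ℕ} (hf : BNSetup.Facts D tabs simps)
    (hst : StData D) (hS : TorusSplitData D) {r₀ s₀ : ℕ} (h : chkPair c r₀ s₀ = true) [Fintype K] (hq : Fintype.card K = 3)
    (hperf : commutator (D.SteinbergCover K) = ⊤)
    (p : E →* D.SteinbergCover K) (hp : Function.Surjective p) (hc : p.ker ≤ Subgroup.center E)
    (hpair : ∀ a b : E, p a = D.scGen K r₀ 1 → p b = D.scGen K s₀ 1 → Commute a b) :
    ∃ τ : D.SteinbergCover K →* E, ∀ g, p (τ g) = g := by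
  classical
  have hD : Good D := ⟨c, hV⟩
  simp only [chkPair, Bool.and_eq_true, allLt_iff, hV.nroots_eq, Nat.blt_eq] at h
  obtain ⟨⟨⟨⟨hr₀, hs₀⟩, hsel'⟩, hpairs⟩, hreps⟩ := h
  simp only [List.all_eq_true, Bool.or_eq_true, Bool.and_eq_true, Nat.beq_eq, Bool.not_eq_true',
    List.isEmpty_iff] at hreps hpairs
  obtain ⟨θ, -, hθ⟩ := hD.exists_cover_hom (F := K)
  set S : StModel D K (D.SteinbergCover K) := coverModel ((D.group K).subtype.comp θ) hθ with hSdef
  set y : D.SteinbergCover K → E := Function.surjInv hp with hydef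
  have hy : ∀ g, p (y g) = g := Function.surjInv_eq hp
  have h3 : (3 : K) = 0 := by
    have := Nat.cast_card_eq_zero K
    rwa [hq, Nat.cast_ofNat] at this
  have h2 : (2 : K) ≠ 0 := fun h => one_ne_zero (by linear_combination h3 - h : (1 : K) = 0)
  have h11 : (-1 : K) ≠ 1 := fun h => h2 (by linear_combination -h)
  have hv : ∀ z : ℤ, (-1 : K) ^ z = 1 ↔ ((2 : ℕ) : ℤ) ∣ z := fun z => by
    rcases Int.even_or_odd z with hz | hz
    · rw [hz.neg_one_zpow]; exact iff_of_true rfl (even_iff_two_dvd.1 hz)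
    · rw [hz.neg_one_zpow]
      exact iff_of_false h11 fun hd => Int.not_even_iff_odd.2 hz (even_iff_two_dvd.2 hd)
  -- the prime field
  have huniv : ({0, 1, -1} : Finset K) = Finset.univ := by
    refine Finset.eq_univ_of_card _ ?_
    rw [hq, Finset.card_insert_of_notMem (by simp), Finset.card_pair h11.symm]
  have hmult : ∀ r, r < D.nroots → ∀ t : K, ∃ n : ℕ, p (y (S.x r 1) ^ n) = S.x r t := by
    intro r hr t
    have hn : ∀ n : ℕ, p (y (S.x r 1) ^ n) = S.x r (n : K) := by
      intro n
      induction n with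
      | zero => rw [pow_zero, map_one, Nat.cast_zero, S.x_zero hr]
      | succ n ih => rw [pow_succ, map_mul, ih, hy, S.add r hr, Nat.cast_succ]
    have ht : t ∈ ({0, 1, -1} : Finset K) := huniv ▸ Finset.mem_univ t
    simp only [Finset.mem_insert, Finset.mem_singleton] at ht
    rcases ht with rfl | rfl | rfl
    · exact ⟨0, by rw [hn, Nat.cast_zero]⟩
    · exact ⟨1, by rw [hn, Nat.cast_one]⟩
    · exact ⟨2, by rw [hn, Nat.cast_ofNat, show (2 : K) = -1 by linear_combination h3]⟩
  -- commuting root elements have commuting lifts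
  let P : ℕ → ℕ → Prop := fun r s => r < D.nroots ∧ s < D.nroots ∧
    (s = r ∨ s = D.neg r ∨ c.comm r s ≠ [] ∨ ∀ t u : K, Commute (y (S.x s u)) (y (S.x r t)))
  have hcomm : ∀ {r s : ℕ}, r < D.nroots → s < D.nroots → s ≠ r → s ≠ D.neg r → c.comm r s = [] →
      ∀ t u : K, Commute (S.x r t) (S.x s u) := fun hr hs e1 e2 he t u =>
    (cm_eq_one.1 (S.cm_orth ⟨hr, hs, e1, e2, by rw [hV.comm_eq hr hs, he]⟩ t u)).symm
  have hP : ∀ {r s : ℕ}, r < D.nroots → s < D.nroots → P r s := by
    intro r s hr hs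
    refine hV.pair_induction (P := P) ?_ ?_ hr hs
    · intro ρ hρ s hs
      obtain ⟨hr0, hb, -⟩ := hV.trees'.2.2 ρ hρ
      have hs0 := hb s hs
      refine ⟨hr0, hs0, ?_⟩
      by_cases e1 : s = ρ.root
      · exact Or.inl e1
      by_cases e2 : s = D.neg ρ.root
      · exact Or.inr (Or.inl e2)
      by_cases e3 : c.comm ρ.root s = []
      swap
      · exact Or.inr (Or.inr (Or.inl e3))
      refine Or.inr (Or.inr (Or.inr ?_))
      have hcm := hcomm hr0 hs0 e1 e2 e3
      rcases hreps ρ hρ s hs with h' | h' | h' | h' | h'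
      · exact absurd h' e1
      · exact absurd (h'.trans (hV.ng_eq hr0).symm) e2
      · simp [e3] at h'
      · obtain ⟨e, he⟩ := hV.exists_kill hr0 hs0 h' hv
        exact commute_of_kill hD hf hst p hc y hy hr0 hs0 hcm ⟨e, -1, neg_ne_zero.2 one_ne_zero, he⟩
      simp only [pairWordB, List.any_eq_true, Bool.and_eq_true, Bool.or_eq_true, Nat.beq_eq] at h'
      obtain ⟨L, -, hL, h'⟩ := h'
      have hLr : ∀ i ∈ L, i < D.rank := fun i hi => by
        have := List.all_eq_true.1 hL i hi
        rwa [Nat.blt_eq, hV.rank_eq] at this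
      have key : ∀ t u : K, Commute (y (S.x (c.wordImg L r₀) t)) (y (S.x (c.wordImg L s₀) u)) := by
        intro t u
        set g : E := y (L.map fun i => S.n (D.simple i) 1).prod with hgdef
        have hcr : ∀ q, q < D.nroots → ∀ t : K, ∃ v : K,
            p (g * y (S.x q v) * g⁻¹) = S.x (c.wordImg L q) t := by
          intro q hq t
          refine ⟨(c.wordSign L q : K) * t, ?_⟩
          rw [map_mul, map_mul, map_inv, hy, hy, (hV.word_conj S hf hst hLr hq _).2, ← mul_assoc,
            ← Int.cast_mul, (wordSign_sq hV hLr hq).2, Int.cast_one, one_mul]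
        obtain ⟨v, hv'⟩ := hcr r₀ hr₀ t
        obtain ⟨w, hw'⟩ := hcr s₀ hs₀ u
        rw [← cm_eq_one, cm_congr hc (a' := g * y (S.x r₀ v) * g⁻¹) (b' := g * y (S.x s₀ w) * g⁻¹)
          (by rw [hy, hv']) (by rw [hy, hw']), cm_eq_one]
        refine Commute.map ?_ (MulAut.conj g)
        obtain ⟨n, hn⟩ := hmult r₀ hr₀ v
        obtain ⟨k, hk⟩ := hmult s₀ hs₀ w
        rw [← cm_eq_one, cm_congr hc (a' := y (S.x r₀ 1) ^ n) (b' := y (S.x s₀ 1) ^ k) (by rw [hy, hn])
          (by rw [hy, hk]), cm_eq_one]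
        exact (hpair _ _ (hy _) (hy _)).pow_pow n k
      intro t u
      rcases h' with ⟨e4, e5⟩ | ⟨e4, e5⟩
      · have := key t u
        rw [e4, e5] at this
        exact this.symm
      · have := key u t
        rwa [e4, e5] at this
    · intro i hi r hr s hs hrs
      refine ⟨hV.w_lt hi hr, hV.w_lt hi hs, ?_⟩
      rcases hrs.2.2 with h1 | h1 | h1 | h1
      · exact Or.inl (congrArg _ h1)
      · refine Or.inr (Or.inl ?_)
        rw [hV.ng_eq (hV.w_lt hi hr), h1, hV.ng_eq hr, hV.w_ng hi hr]
      · refine Or.inr (Or.inr (Or.inl ?_))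
        rw [hV.comm_w hi hr hs]
        simpa [Cert.mapComm] using h1
      · refine Or.inr (Or.inr (Or.inr fun t u => ?_))
        set g : E := y (S.n (D.simple i) 1)
        have key : ∀ q, q < D.nroots → ∀ t : K,
            p (g * y (S.x q ((c.η i q : K) * t)) * g⁻¹) = S.x (c.w i q) t := by
          intro q hq t
          rw [map_mul, map_mul, map_inv, hy, hy, hV.n_conj_sign S hf hst hi hq, ← mul_assoc, hV.eta_cast_sq hi hq,
            one_mul]
        rw [← cm_eq_one, cm_congr hc (a' := g * y (S.x s ((c.η i s : K) * u)) * g⁻¹)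
          (b' := g * y (S.x r ((c.η i r : K) * t)) * g⁻¹) (by rw [hy, key s hs]) (by rw [hy, key r hr]), cm_eq_one]
        exact (h1 _ _).map (MulAut.conj g)
  -- the lifts
  have hself : ∀ r, r < D.nroots → ∀ t u : K, Commute (y (S.x r t)) (y (S.x r u)) := by
    intro r hr t u
    obtain ⟨n, hn⟩ := hmult r hr t
    obtain ⟨k, hk⟩ := hmult r hr u
    rw [← cm_eq_one, cm_congr hc (a' := y (S.x r 1) ^ n) (b' := y (S.x r 1) ^ k) (by rw [hy, hn]) (by rw [hy, hk]),
      cm_eq_one]
    exact ((Commute.refl _).pow_pow n k)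
  obtain ⟨φ, hφ, hφadd, hφeq⟩ := exists_lifts hD hf hst p hc hθ y hy hperf hp
    (fun r hr => (hV.exists_sel hr (hsel' r hr) hv).elim fun e he => ⟨e, -1, neg_ne_zero.2 one_ne_zero, he⟩) hself
  refine exists_section_of_lifts hD hf hst p hc hθ y hy φ hφ hφadd hφeq
    (fun r hr s hs h1 h2 => let ⟨b, _, hb1, hb2, _⟩ := hS.pair r hr s hs h1 h2; ⟨b, hb1, hb2⟩)
    fun r hr s hs h1 h2 => ?_
  by_cases he : c.comm r s = []
  · refine Or.inl fun t u => ?_
    rcases (hP hr hs).2.2 with h' | h' | h' | h'
    · exact absurd h' h1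
    · exact absurd h' h2
    · exact absurd he h'
    · rw [ChevalleyDatum.commWord, hV.comm_eq hr hs, he, List.map_nil, List.map_nil, List.prod_nil,
        cm_congr hc (a' := y (S.x s u)) (b' := y (S.x r t)) (by rw [hφ s hs, hy]; rfl) (by rw [hφ r hr, hy]; rfl),
        cm_eq_one]
      exact h' t u
  · rcases hpairs r hr s hs with h' | h' | h' | h'
    · exact absurd h' h1
    · exact absurd (h'.trans (hV.ng_eq hr).symm) h2
    · exact absurd h' he
    · obtain ⟨e, he'⟩ := hV.exists_kill hr hs h' hv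
      exact Or.inr ⟨e, -1, neg_ne_zero.2 one_ne_zero, he'⟩

end Cfsg.Agent.Chev
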